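import Groth.Agent.EtAcycLib.UnitRpush
import Groth.Agent.SiteBase.Horseshoe
import Groth.Agent.EtFound.PullStalk
import Groth.Agent.EtFound.PushExact

/-!
# Finiteness of cohomology from finiteness of the Leray terms
-/

set_option autoImplicit false
set_option linter.style.haveILetI false
set_option linter.unusedSectionVars false
set_option backward.isDefEq.respectTransparency false
set_option backward.isDefEq.respectTransparency.types false
set_option maxHeartbeats 1600000

universe u

open CategoryTheory CategoryTheory.Limits AlgebraicGeometry Opposite Abelian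

noncomputable section

namespace Groth.Agent.CurveFin.Leray

open Groth.Agent.BcQCalc

variable {U Y : Scheme.{u}}

/-- pushing a cohomology class along a map of sheaves -/
def hm {F G : EtCoh.Ab Y} (φ : F ⟶ G) (q : ℕ) : EtCoh.H Y F q →+ EtCoh.H Y G q :=
  (Ext.mk₀ φ).postcomp _ (add_zero q)

theorem hm_comp {F G K : EtCoh.Ab Y} (φ : F ⟶ G) (ψ : G ⟶ K) (q : ℕ) (x : EtCoh.H Y F q) :
    hm ψ q (hm φ q x) = hm (φ ≫ ψ) q x := by
  show (x.comp (Ext.mk₀ φ) (add_zero q)).comp (Ext.mk₀ ψ) (add_zero q) = x.comp (Ext.mk₀ (φ ≫ ψ)) (add_zero q)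
  rw [Ext.comp_assoc_of_second_deg_zero, Ext.mk₀_comp_mk₀]

theorem hm_bijective {F G : EtCoh.Ab Y} (e : F ≅ G) (q : ℕ) : Function.Bijective (hm e.hom q) :=
  EtAcycLib.bijective_comp_mk₀ e

theorem finite_of_kernel_image {A B : Type*} [AddCommGroup A] [AddCommGroup B] (g : A →+ B) [Finite B]
    {K : Type*} [AddCommGroup K] [Finite K] (k : K →+ A) (hk : ∀ a, g a = 0 → ∃ c, k c = a) : Finite A := by
  haveI : Finite g.range := inferInstance
  haveI : Finite g.ker := Finite.of_surjective
    (fun c : {c // g (k c) = 0} => (⟨k c.1, c.2⟩ : g.ker)) fun a => by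
      obtain ⟨c, hc⟩ := hk a.1 a.2
      exact ⟨⟨c, by rw [hc]; exact a.2⟩, Subtype.ext hc⟩
  haveI : Finite (A ⧸ g.ker) := Finite.of_equiv _ (QuotientAddGroup.quotientKerEquivRange g).toEquiv.symm
  exact Finite.of_equiv _ (AddSubgroup.addGroupEquivQuotientProdAddSubgroup (s := g.ker)).symm

/-- finiteness of the Leray terms in total degree `n` gives finiteness in degree `n` -/
theorem finite_H_of_leray (j : U ⟶ Y) [PreservesFiniteLimits (EtCoh.pull j)] :
    ∀ (n : ℕ) (G : EtCoh.Ab U),
      (∀ p q, p + q = n → Finite (EtCoh.H Y ((EtCoh.Rpush j q).obj G) p)) → Finite (EtCoh.H U G n) := by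
  haveI : (EtCoh.push j).IsRightAdjoint := (EtCoh.pullPushAdj j).isRightAdjoint
  let R₀ := (EtCoh.push j).rightDerivedZeroIsoSelf
  intro n
  induction n with
  | zero =>
    intro G h
    haveI := h 0 0 rfl
    haveI : Finite (EtCoh.H Y ((EtCoh.push j).obj G) 0) := Finite.of_surjective _ (hm_bijective (R₀.app G) 0).2
    exact Finite.of_surjective _ (HofPush_bijective_zero j G).2
  | succ m ih =>
    intro G h
    let S := embSES G
    have hS : S.ShortExact := embSES_shortExact G
    haveI : Injective S.X₂ := inferInstanceAs (Injective (Injective.under G))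
    haveI : Mono S.f := hS.mono_f
    haveI : Injective ((EtCoh.push j).obj S.X₂) := (EtCoh.pullPushAdj j).map_injective S.X₂ inferInstance
    let T := SESResLib.derivedLES (EtCoh.push j)
    have hI : ∀ i, IsZero ((EtCoh.Rpush j (i + 1)).obj S.X₂) := fun i =>
      (EtCoh.push j).isZero_rightDerived_obj_injective_succ i S.X₂
    -- the connecting map in degree zero and its kernel
    let δ₀ := T.δ S hS 0 1 rfl
    let d : (EtCoh.push j).obj S.X₃ ⟶ (EtCoh.Rpush j 1).obj G := R₀.inv.app S.X₃ ≫ δ₀
    haveI : Epi δ₀ := (T.exact₁ S hS 0 1 rfl).epi_f ((hI 0).eq_of_tgt _ _)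
    haveI : Epi d := epi_comp _ _
    let Kd := ShortComplex.mk (kernel.ι d) d (kernel.condition d)
    have hKd : Kd.ShortExact := { exact := ShortComplex.exact_of_f_is_kernel _ (kernelIsKernel d) }
    let P := S.map (EtCoh.push j)
    haveI : PreservesFiniteLimits (EtCoh.push j) := EtFound.push_preservesFiniteLimits j
    have hP : P.Exact :=
      ((((Functor.preservesFiniteLimits_tfae (EtCoh.push j)).out 3 0 rfl rfl).1 inferInstance) S hS).1
    haveI : Mono P.f := inferInstanceAs (Mono ((EtCoh.push j).map S.f))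
    have hgd : (EtCoh.push j).map S.g ≫ d = 0 := by
      show _ ≫ R₀.inv.app S.X₃ ≫ δ₀ = 0
      rw [← Category.assoc, R₀.inv.naturality, Category.assoc, T.comp_δ S hS 0 1 rfl, comp_zero]
    have hQd : (ShortComplex.mk ((EtCoh.push j).map S.g) d hgd).Exact := by
      refine (ShortComplex.exact_iff_of_iso ?_).1 (T.exact₃ S hS 0 1 rfl)
      refine ShortComplex.isoMk (R₀.app S.X₂) (R₀.app S.X₃) (Iso.refl _) (R₀.hom.naturality S.g).symm ?_
      show R₀.hom.app S.X₃ ≫ R₀.inv.app S.X₃ ≫ δ₀ = δ₀ ≫ 𝟙 _
      rw [Iso.hom_inv_id_app_assoc, Category.comp_id]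
    let π : (EtCoh.push j).obj S.X₂ ⟶ kernel d := kernel.lift d ((EtCoh.push j).map S.g) hgd
    haveI : Epi π := hQd.epi_kernelLift
    have hπ0 : (EtCoh.push j).map S.f ≫ π = 0 := by
      rw [← cancel_mono (kernel.ι d), Category.assoc, kernel.lift_ι, zero_comp, ← Functor.map_comp, S.zero,
        Functor.map_zero]
    let Q := ShortComplex.mk ((EtCoh.push j).map S.f) π hπ0
    have hQ : Q.ShortExact :=
      { exact := by
          let φ : Q ⟶ P :=
            { τ₁ := 𝟙 _, τ₂ := 𝟙 _, τ₃ := kernel.ι d,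
              comm₁₂ := by simp [Q, P], comm₂₃ := by simp [Q, P, π] }
          exact (ShortComplex.exact_iff_of_epi_of_isIso_of_mono φ).2 hP
        mono_f := inferInstance
        epi_g := inferInstance }
    have hR0 : ∀ p, p + 0 = m + 1 → Finite (EtCoh.H Y ((EtCoh.push j).obj G) p) := fun p hp => by
      haveI := h p 0 hp
      exact Finite.of_surjective _ (hm_bijective (R₀.app G) p).2
    rcases m with _ | m'
    · -- degree one
      haveI := hR0 1 rfl
      haveI := h 0 1 rfl
      let N : AddSubgroup (EtCoh.H Y ((EtCoh.push j).obj S.X₃) 0) := (hm ((EtCoh.push j).map S.g) 0).range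
      let ψ : (EtCoh.H Y ((EtCoh.push j).obj S.X₃) 0) ⧸ N →+ EtCoh.H Y ((EtCoh.Rpush j 1).obj G) 0 :=
        QuotientAddGroup.lift N (hm d 0) (by
          rintro _ ⟨x, rfl⟩
          rw [AddMonoidHom.mem_ker, hm_comp, hgd]
          show x.comp (Ext.mk₀ 0) (add_zero 0) = 0
          rw [Ext.mk₀_zero, Ext.comp_zero])
      let bd : EtCoh.H Y (kernel d) 0 →+ EtCoh.H Y ((EtCoh.push j).obj G) 1 := hQ.extClass.postcomp _ rfl
      let M := (hm π 0).range
      have hMker : bd.ker = M := le_antisymm
        (fun c hc => (Ext.covariant_sequence_exact₃ _ hQ c rfl hc))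
        (by
          rintro _ ⟨x, rfl⟩
          show (x.comp (Ext.mk₀ Q.g) (add_zero 0)).comp hQ.extClass rfl = 0
          rw [Ext.comp_assoc_of_second_deg_zero]
          erw [hQ.comp_extClass]
          exact Ext.comp_zero ..)
      haveI : Finite ((EtCoh.H Y (kernel d) 0) ⧸ M) := by
        rw [← hMker]
        exact Finite.of_equiv _ (QuotientAddGroup.quotientKerEquivRange bd).toEquiv.symm
      let k : (EtCoh.H Y (kernel d) 0) ⧸ M →+ (EtCoh.H Y ((EtCoh.push j).obj S.X₃) 0) ⧸ N :=
        QuotientAddGroup.map M N (hm (kernel.ι d) 0) (by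
          rintro _ ⟨x, rfl⟩
          refine ⟨x, ?_⟩
          rw [hm_comp, kernel.lift_ι])
      haveI : Finite ((EtCoh.H Y ((EtCoh.push j).obj S.X₃) 0) ⧸ N) := by
        refine finite_of_kernel_image ψ k fun a ha => ?_
        obtain ⟨b, rfl⟩ := QuotientAddGroup.mk'_surjective N a
        obtain ⟨c, hc⟩ := Ext.covariant_sequence_exact₂ _ hKd b ha
        exact ⟨QuotientAddGroup.mk' M c, congrArg (QuotientAddGroup.mk' N) hc⟩
      let Φ : EtCoh.H Y ((EtCoh.push j).obj S.X₃) 0 →+ EtCoh.H U G 1 :=
        (hS.extClass.postcomp _ rfl).comp (EtLim.HofPush j S.X₃ 0)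
      refine Finite.of_surjective (QuotientAddGroup.lift N Φ ?_) fun z => ?_
      · rintro _ ⟨x, rfl⟩
        show (EtLim.HofPush j S.X₃ 0 (x.comp (Ext.mk₀ ((EtCoh.push j).map S.g)) (add_zero 0))).comp hS.extClass rfl = 0
        rw [HofPush_natural j S.g 0 x, Ext.comp_assoc_of_second_deg_zero]
        erw [hS.comp_extClass]
        exact Ext.comp_zero ..
      · obtain ⟨y, hy⟩ := Ext.covariant_sequence_exact₁ _ hS z (Ext.eq_zero_of_injective _) rfl
        obtain ⟨x, rfl⟩ := (HofPush_bijective_zero j S.X₃).2 y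
        exact ⟨QuotientAddGroup.mk' N x, hy⟩
    · -- higher degrees
      have hC : Finite (EtCoh.H U S.X₃ (m' + 1)) := by
        refine ih S.X₃ fun p q hpq => ?_
        rcases q with _ | q
        · have hp : p = m' + 1 := hpq
          subst hp
          haveI := h (m' + 1) 1 rfl
          haveI := hR0 (m' + 1 + 1) rfl
          haveI : Finite (EtCoh.H Y Q.X₁ (m' + 1 + 1)) := hR0 (m' + 1 + 1) rfl
          haveI : Finite (EtCoh.H Y (kernel d) (m' + 1)) := by
            refine Finite.of_injective (fun c : EtCoh.H Y (kernel d) (m' + 1) =>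
              (c.comp hQ.extClass rfl : EtCoh.H Y ((EtCoh.push j).obj G) (m' + 1 + 1))) ?_
            refine (injective_iff_map_eq_zero (hQ.extClass.postcomp _ rfl : EtCoh.H Y (kernel d) (m' + 1) →+ _)).2
              fun c hc => ?_
            obtain ⟨b, rfl⟩ := Ext.covariant_sequence_exact₃ _ hQ c rfl hc
            rw [Ext.eq_zero_of_injective b, Ext.zero_comp]
          haveI : Finite (EtCoh.H Y ((EtCoh.push j).obj S.X₃) (m' + 1)) :=
            finite_of_kernel_image (hm d (m' + 1)) (hm (kernel.ι d) (m' + 1))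
              fun a ha => Ext.covariant_sequence_exact₂ _ hKd a ha
          exact Finite.of_surjective _ (hm_bijective (R₀.app S.X₃).symm (m' + 1)).2
        · haveI : Finite (EtCoh.H Y ((EtCoh.Rpush j (q + 1 + 1)).obj S.X₁) p) := h p (q + 1 + 1) (by omega)
          haveI : IsIso (T.δ S hS (q + 1) (q + 1 + 1) rfl) := by
            haveI := (T.exact₁ S hS (q + 1) (q + 1 + 1) rfl).epi_f ((hI (q + 1)).eq_of_tgt _ _)
            haveI := (T.exact₃ S hS (q + 1) (q + 1 + 1) rfl).mono_g ((hI q).eq_of_src _ _)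
            exact isIso_of_mono_of_epi _
          exact Finite.of_surjective _ (hm_bijective (asIso (T.δ S hS (q + 1) (q + 1 + 1) rfl)).symm p).2
      haveI := hC
      refine Finite.of_surjective (fun y : EtCoh.H U S.X₃ (m' + 1) => y.comp hS.extClass rfl) fun z => ?_
      exact Ext.covariant_sequence_exact₁ _ hS z (Ext.eq_zero_of_injective _) rfl

end Groth.Agent.CurveFin.Leray
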