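import Groth.Agent.CurveFin.Finite
import Groth.Agent.RpushStalk.Transfer
import Groth.Agent.EtDvrCd.Upper
import Groth.Agent.EtMu5.Main
import Groth.Agent.S0073
import Groth.Agent.S2743
import Groth.Agent.S0540
import Groth.Agent.S0541

/-!
# Stalks of higher direct images along open immersions of curves
-/

set_option autoImplicit false
set_option linter.style.haveILetI false
set_option linter.unusedSectionVars false
set_option backward.isDefEq.respectTransparency false
set_option backward.isDefEq.respectTransparency.types false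
set_option maxHeartbeats 1600000
set_option synthInstance.maxHeartbeats 200000

universe u

open CategoryTheory CategoryTheory.Limits AlgebraicGeometry Opposite Abelian IsLocalRing

noncomputable section

namespace Groth.Agent.CurveFin

open Groth.Agent.EtFound

attribute [local instance] EtFound.pull_preservesFiniteLimits

/-- isomorphic schemes have the same constant cohomology -/
theorem nonempty_H_const_equiv {P Q : Scheme.{u}} (e : P ≅ Q) (M : Type) [AddCommGroup M] (b : ℕ) :
    Nonempty (EtCoh.H Q (EtCoh.const Q M) b ≃+ EtCoh.H P (EtCoh.const P M) b) := by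
  let h : EtCoh.H Q (EtCoh.const Q M) b ≃+ EtCoh.H P ((EtCoh.pull e.hom).obj (EtCoh.const Q M)) b :=
    AddEquiv.ofBijective _ (EtAcycLib.bijective_Hpull_of_isIso e.hom (EtCoh.const Q M) b)
  exact ⟨h.trans ((EtCoh.HF P b).mapIso (EtCore.pullConst e.hom M)).addCommGroupIsoToAddEquiv⟩

/-- the punctured spectrum of a strictly henselian discrete valuation ring -/
theorem finite_H_punctured {k : Type u} [Field k] [IsAlgClosed k] (R : Type u) [CommRing R]
    [IsRegularLocalRing R] [HenselianLocalRing R] [IsSepClosed (ResidueField R)] (hdim : ringKrullDim R = 1)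
    (x : R) (hx : maximalIdeal R = Ideal.span {x})
    (g : Spec (CommRingCat.of (Localization.Away x)) ⟶ Spec (CommRingCat.of k))
    (ℓ : ℕ) (hℓ : ℓ.Prime) (hℓk : (ℓ : k) ≠ 0) (hℓR : IsUnit (ℓ : R)) (b : ℕ) :
    Finite (EtCoh.H (Spec (CommRingCat.of (Localization.Away x)))
      (EtCoh.const (Spec (CommRingCat.of (Localization.Away x))) (ZMod ℓ)) b) := by
  haveI : NeZero ℓ := ⟨hℓ.ne_zero⟩
  haveI : IsDomain R := (RegUFD.ufd R).1
  have hnf : ¬ IsField R := fun hf => by
    rw [ringKrullDim_eq_zero_of_isField hf] at hdim
    exact zero_ne_one hdim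
  have hm0 : maximalIdeal R ≠ ⊥ := fun h => hnf (IsLocalRing.isField_iff_maximalIdeal_eq.2 h)
  have hx0 : x ≠ 0 := fun h => hm0 (by rw [hx, h, Ideal.span_singleton_eq_bot])
  have hxm : x ∈ maximalIdeal R := hx ▸ Ideal.mem_span_singleton_self x
  have hx2 : x ∉ maximalIdeal R ^ 2 := fun h => by
    rw [hx, Ideal.span_singleton_pow, Ideal.mem_span_singleton] at h
    obtain ⟨c, hc⟩ := h
    have h1 : x * c = 1 := mul_left_cancel₀ hx0 (by rw [mul_one, ← mul_assoc, ← sq, ← hc])
    exact (IsLocalRing.mem_maximalIdeal x).1 hxm (IsUnit.of_mul_eq_one c h1)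
  let A := Localization.Away x
  haveI : IsDomain A := IsLocalization.isDomain_of_le_nonZeroDivisors _
    (powers_le_nonZeroDivisors_of_noZeroDivisors hx0)
  haveI : Ring.KrullDimLE 1 R := Ring.krullDimLE_iff.2 hdim.le
  rcases b with _ | b
  · exact finite_H_zero_const (ZMod ℓ)
  rcases b with _ | b
  · obtain ⟨e⟩ := EtMu5.main R ⟨inferInstance, inferInstance⟩ x hxm hx2 ℓ hℓR
    obtain ⟨i⟩ := PicCurve.nonempty_mu_iso_const' g hℓk
    haveI : Finite ((EtCoh.HF (Spec (CommRingCat.of A)) 1).obj (EtCoh.mu _ ℓ)) :=
      Finite.of_equiv _ e.toEquiv.symm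
    exact Finite.of_equiv _ ((EtCoh.HF (Spec (CommRingCat.of A)) 1).mapIso i).addCommGroupIsoToAddEquiv.toEquiv
  · -- the localization is the fraction field
    haveI : IsFractionRing R A := by
      haveI : IsLocalization (Submonoid.powers x) A := Localization.isLocalization
      refine IsLocalization.of_le (Submonoid.powers x) (nonZeroDivisors R)
        (powers_le_nonZeroDivisors_of_noZeroDivisors hx0) fun r hr => ?_
      have hr0 : r ≠ 0 := nonZeroDivisors.ne_zero hr
      by_contra hu
      obtain ⟨P, hP, hrP⟩ := exists_max_ideal_of_mem_nonunits hu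
      haveI := hP.isPrime
      have hcx : x ∉ P.comap (algebraMap R A) := fun hmem =>
        hP.ne_top (Ideal.eq_top_of_isUnit_mem _ hmem (IsLocalization.map_units A ⟨x, Submonoid.mem_powers x⟩))
      have hQ0 : P.comap (algebraMap R A) = ⊥ := by
        by_contra h0
        exact hcx (((IsLocalRing.eq_maximalIdeal ((Ideal.IsPrime.comap (algebraMap R A)).isMaximal_of_ne_bot h0)).symm ▸ hxm :))
      have : r ∈ P.comap (algebraMap R A) := hrP
      rw [hQ0] at this
      exact hr0 this
    let K := FractionRing (R ⧸ (⊥ : Ideal R))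
    let e : A ≃+* K := IsFractionRing.ringEquivOfRingEquiv (RingEquiv.quotientBot R).symm
    have hV := EtDvrCd.vd_frac_sh R hdim.le (⊥ : Ideal R) hℓ hℓR
    let ι : Spec (CommRingCat.of K) ≅ Spec (CommRingCat.of A) := Scheme.Spec.mapIso e.toCommRingCatIso.op
    obtain ⟨q⟩ := nonempty_H_const_equiv ι (ZMod ℓ) (b + 1 + 1)
    haveI := hV (EtCoh.const (Spec (CommRingCat.of K)) (ZMod ℓ)) 1 (by
      rw [pow_one]
      exact GalCd5.killed_const _ ℓ fun y => by rw [nsmul_eq_mul, ZMod.natCast_self, zero_mul]) (b + 1 + 1) (by omega)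
    haveI := q.toEquiv.subsingleton
    infer_instance

/-- stalks of higher direct images of constants along open immersions into normal curves -/
theorem finite_stalk_Rpush (k : Type u) [Field k] [IsAlgClosed k] {U Y : Scheme.{u}}
    (s : Y ⟶ Spec (CommRingCat.of k)) [LocallyOfFiniteType s] [IsIntegral Y] (hY : Pi1.IsNormalScheme Y)
    (hdim : topologicalKrullDim Y ≤ 1) (j : U ⟶ Y) [IsOpenImmersion j] [QuasiCompact j] [Nonempty U]
    (ℓ : ℕ) (hℓ : ℓ.Prime) (hℓk : (ℓ : k) ≠ 0) (b : ℕ) {Ω : Type u} [Field Ω] [IsSepClosed Ω]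
    (ξ : Spec (CommRingCat.of Ω) ⟶ Y) :
    Finite ((EtCoh.stalk ξ).obj ((EtCoh.Rpush j b).obj (EtCoh.const U (ZMod ℓ)))) ∧
      (0 < b → ξ.base (default : Spec (CommRingCat.of Ω)) ∈ Set.range j.base →
        Subsingleton ((EtCoh.stalk ξ).obj ((EtCoh.Rpush j b).obj (EtCoh.const U (ZMod ℓ))))) := by
  haveI : NeZero ℓ := ⟨hℓ.ne_zero⟩
  haveI : IsLocallyNoetherian Y := LocallyOfFiniteType.isLocallyNoetherian s
  haveI : QuasiSeparated j := inferInstance
  let y := ξ.base (default : Spec (CommRingCat.of Ω))
  obtain ⟨R, _, _, _, _, hR⟩ := BcQCalc.exists_strictHens (Y.presheaf.stalk y)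
  haveI := hR
  haveI : HenselianLocalRing R := _root_.Hensel.IsStrictHenselization.henselian (R := Y.presheaf.stalk y)
  haveI : IsSepClosed (ResidueField R) :=
    (_root_.Hensel.IsStrictHenselization.isSepClosure (R := Y.presheaf.stalk y) (S := R)).sep_closed
  let h := Hens2.specOf Y y R
  obtain ⟨e⟩ := RpushStalk.nonempty_stalk_natIso j y R b
  have hgeo : (Hens2.geomPt Y y R).base (default : Spec (CommRingCat.of (ResidueField R))) = y := by
    show (Spec.map (CommRingCat.ofHom (residue R)) ≫ Hens2.specOf Y y R).base default = y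
    rw [Scheme.Hom.comp_apply]
    exact (congrArg (Hens2.specOf Y y R) (EtFound.cpt_base R _)).trans (LocAcycLib.specOf_closedPoint Y y R)
  let F := (EtCoh.Rpush j b).obj (EtCoh.const U (ZMod ℓ))
  obtain ⟨se⟩ := nonempty_stalk_equiv F ξ (Hens2.geomPt Y y R) hgeo.symm
  let P := pullback j h
  let ec : (EtCoh.stalk ξ).obj F ≃ EtCoh.H P (EtCoh.const P (ZMod ℓ)) b :=
    se.trans (((e.app (EtCoh.const U (ZMod ℓ))) ≪≫ (EtCoh.HF P b).mapIso
      (EtCore.pullConst (pullback.fst j h) (ZMod ℓ))).addCommGroupIsoToAddEquiv.toEquiv)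
  haveI : IsOpenImmersion (pullback.snd j h) := inferInstance
  have hrange : ∀ z : Spec (CommRingCat.of R), z ∈ Set.range (pullback.snd j h).base ↔ h z ∈ Set.range j.base := by
    intro z
    rw [Scheme.Pullback.range_snd]
    rfl
  have hclosed : h (closedPoint R) = y := LocAcycLib.specOf_closedPoint Y y R
  by_cases hy : y ∈ Set.range j.base
  · -- the point lies in the open
    haveI : Surjective (pullback.snd j h) := ⟨fun z => by
      refine (hrange z).2 ((IsLocalRing.specializes_closedPoint (R := R) z).map h.continuous |>.mem_open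
        j.isOpenEmbedding.isOpen_range (hclosed.symm ▸ hy))⟩
    haveI : IsIso (pullback.snd j h) :=
      (isIso_iff_isOpenImmersion_and_surjective _).2 ⟨inferInstance, inferInstance⟩
    obtain ⟨q⟩ := nonempty_H_const_equiv (asIso (pullback.snd j h)) (ZMod ℓ) b
    have hpos : 0 < b → Subsingleton ((EtCoh.stalk ξ).obj F) := fun hb => by
      haveI := S0073.result R (EtCoh.const (Spec (CommRingCat.of R)) (ZMod ℓ)) b hb
      exact (ec.trans q.toEquiv.symm).subsingleton
    refine ⟨?_, fun hb _ => hpos hb⟩
    rcases b with _ | b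
    · haveI : ConnectedSpace (Spec (CommRingCat.of R)) :=
        { toNonempty := ⟨closedPoint R⟩
          toPreconnectedSpace := preconnectedSpace_iff_clopen.2 fun t ht => by
            by_cases hc : closedPoint R ∈ t
            · exact Or.inr (Set.eq_univ_of_forall fun z =>
                (IsLocalRing.specializes_closedPoint (R := R) z).mem_open ht.2 hc)
            · exact Or.inl (Set.compl_univ_iff.1 (Set.eq_univ_of_forall fun z =>
                (IsLocalRing.specializes_closedPoint (R := R) z).mem_open ht.1.isOpen_compl hc)) }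
      haveI := finite_H_zero_const (X := Spec (CommRingCat.of R)) (ZMod ℓ)
      exact Finite.of_equiv _ (ec.trans q.toEquiv.symm).symm
    · haveI := hpos (Nat.succ_pos b)
      infer_instance
  · refine ⟨?_, fun _ h' => absurd h' hy⟩
    let O := Y.presheaf.stalk y
    have hne : y ≠ genericPoint Y := fun e' => hy (e' ▸ by
      obtain ⟨u⟩ := ‹Nonempty U›
      exact (genericPoint_specializes (j u)).mem_open j.isOpenEmbedding.isOpen_range ⟨u, rfl⟩)
    have hlt : (0 : WithBot ℕ∞) < ringKrullDim O := by
      rw [ringKrullDim_stalk_eq_coheight]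
      have : Order.coheight y ≠ 0 := fun h0 => hne
        (((genericPoint_specializes y).antisymm (Order.coheight_eq_zero.1 h0 (genericPoint_specializes y))).eq.symm)
      exact_mod_cast pos_iff_ne_zero.2 this
    have hO : ringKrullDim O = 1 := le_antisymm ((CurveCohLib.ringKrullDim_stalk_le_topologicalKrullDim y).trans hdim)
      (by
        rw [ringKrullDim_stalk_eq_coheight] at hlt ⊢
        exact WithBot.coe_le_coe.2 (Order.one_le_iff_pos.2 (WithBot.coe_lt_coe.1 hlt)))
    haveI : IsRegularLocalRing O := Ref1X.isRegular_of_normal_dim_le_one hY hO.le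
    haveI : IsNoetherianRing R := (S0540.result O R).1 inferInstance
    haveI : IsRegularLocalRing R := (S2743.result O R).2 inferInstance
    have hdR : ringKrullDim R = 1 := (S0541.result O R).trans hO
    haveI : IsDomain R := (RegUFD.ufd R).1
    obtain ⟨x, hx⟩ : ∃ x : R, maximalIdeal R = Ideal.span {x} := by
      have hs : (maximalIdeal R).spanFinrank = 1 := by
        have := IsRegularLocalRing.spanFinrank_maximalIdeal (R := R)
        rw [hdR] at this
        exact_mod_cast this
      haveI : (maximalIdeal R).IsPrincipal := ((Submodule.spanFinrank_eq_one_iff _).1 hs).1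
      exact ⟨_, (Ideal.span_singleton_generator _).symm⟩
    let a : Spec (CommRingCat.of (Localization.Away x)) ⟶ Spec (CommRingCat.of R) :=
      Spec.map (CommRingCat.ofHom (algebraMap R (Localization.Away x)))
    haveI : IsOpenImmersion a := IsOpenImmersion.of_isLocalization x
    have hra : Set.range (pullback.snd j h).base = Set.range a.base := by
      ext z
      refine (hrange z).trans (Iff.trans ?_ (Set.ext_iff.1 (PrimeSpectrum.localization_away_comap_range
        (Localization.Away x) x) z).symm)
      show h z ∈ Set.range j.base ↔ x ∉ z.asIdeal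
      constructor
      · intro hz hxz
        have hmax : z.asIdeal = maximalIdeal R := le_antisymm (IsLocalRing.le_maximalIdeal z.isPrime.ne_top)
          (hx ▸ (Ideal.span_singleton_le_iff_mem _).2 hxz)
        have : z = closedPoint R := PrimeSpectrum.ext hmax
        rw [this, hclosed] at hz
        exact hy hz
      · intro hxz
        have hsp : h z ⤳ y := hclosed ▸ (IsLocalRing.specializes_closedPoint (R := R) z).map h.continuous
        have hne' : h z ≠ y := fun e' => by
          let φ := algebraMap O R
          let w : Spec O := (Spec.map (CommRingCat.ofHom φ)) z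
          have hw : Y.fromSpecStalk y w = Y.fromSpecStalk y (closedPoint O) := by
            rw [Scheme.fromSpecStalk_closedPoint]
            exact e'
          have hw' : w = closedPoint O := (Y.fromSpecStalk y).isEmbedding.injective hw
          have hle : maximalIdeal O ≤ z.asIdeal.comap φ := (congrArg PrimeSpectrum.asIdeal hw').ge
          have hm : maximalIdeal R ≤ z.asIdeal := by
            rw [← (Hensel.isHenzLike_of_isStrictHenselization O R).map_maximalIdeal]
            exact Ideal.map_le_iff_le_comap.2 hle
          exact hxz (hm (hx ▸ Ideal.mem_span_singleton_self x))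
        obtain ⟨u⟩ := ‹Nonempty U›
        have hgen : genericPoint Y ∈ Set.range j.base :=
          (genericPoint_specializes (j u)).mem_open j.isOpenEmbedding.isOpen_range ⟨u, rfl⟩
        have hc : h z = genericPoint Y := by
          by_contra hz
          have h1 : y < h z := lt_of_le_not_ge hsp fun h' => hne' ((Specializes.antisymm hsp h').eq)
          have h2 : h z < genericPoint Y := lt_of_le_not_ge (genericPoint_specializes (h z)) fun h' =>
            hz ((Specializes.antisymm (x := h z) h' (genericPoint_specializes (h z))).eq)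
          have h3 : ((2 : ℕ∞) : WithBot ℕ∞) ≤ ringKrullDim O := by
            rw [ringKrullDim_stalk_eq_coheight]
            refine WithBot.coe_le_coe.2 ?_
            calc (2 : ℕ∞) = 0 + 1 + 1 := rfl
              _ ≤ Order.coheight (genericPoint Y) + 1 + 1 := add_le_add_left (add_le_add_left bot_le 1) 1
              _ ≤ Order.coheight (h z) + 1 := add_le_add_left (Order.coheight_add_one_le h2) 1
              _ ≤ Order.coheight y := Order.coheight_add_one_le h1
          rw [hO] at h3
          exact absurd (WithBot.coe_le_coe.1 h3) (by norm_num)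
        rw [hc]
        exact hgen
    let θ : P ≅ Spec (CommRingCat.of (Localization.Away x)) :=
      IsOpenImmersion.isoOfRangeEq (pullback.snd j h) a hra
    obtain ⟨q⟩ := nonempty_H_const_equiv θ (ZMod ℓ) b
    have hℓR : IsUnit (ℓ : R) := by
      have := (isUnit_iff_ne_zero.2 hℓk).map
        ((algebraMap O R).comp ((Y.presheaf.germ ⊤ y trivial).hom.comp (Coh.toGlobal s)))
      rwa [map_natCast] at this
    haveI := finite_H_punctured R hdR x hx (a ≫ h ≫ s) ℓ hℓ hℓk hℓR b
    exact Finite.of_equiv _ (ec.trans q.toEquiv.symm).symm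

end Groth.Agent.CurveFin
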