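import Groth.Agent.CurveFin.Leray
import Groth.Agent.CurveFin.Punctured
import Groth.Agent.CurveModel.Basic
import Groth.Agent.AnPts.Dense
import Groth.Agent.Ref1X.Big
import Groth.Agent.GrpSchLib.SmoothRegular
import Groth.Agent.GmDiv.Sheaf

/-!
# Finiteness of the cohomology of constructible sheaves on curves, orders invertible in the field
-/

set_option autoImplicit false
set_option linter.style.haveILetI false
set_option linter.unusedSectionVars false
set_option backward.isDefEq.respectTransparency false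
set_option backward.isDefEq.respectTransparency.types false
set_option maxHeartbeats 1600000
set_option synthInstance.maxHeartbeats 200000

universe u

open CategoryTheory CategoryTheory.Limits AlgebraicGeometry Opposite Abelian TopologicalSpace

noncomputable section

namespace Groth.Agent.CurveFin

open Groth.Agent.EtFound

attribute [local instance] EtFound.pull_preservesFiniteLimits

/-- devissage of finite coefficient groups -/
theorem finite_H_const_of_prime (Y : Scheme.{u}) (q : ℕ) (good : ℕ → Prop)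
    (h : ∀ ℓ : ℕ, ℓ.Prime → good ℓ → Finite (EtCoh.H Y (EtCoh.const Y (ZMod ℓ)) q))
    (M : Type) [AddCommGroup M] [Finite M] (hM : ∀ ℓ : ℕ, ℓ.Prime → ℓ ∣ Nat.card M → good ℓ) :
    Finite (EtCoh.H Y (EtCoh.const Y M) q) := by
  obtain ⟨c, hc⟩ : ∃ c, Nat.card M = c := ⟨_, rfl⟩
  induction c using Nat.strong_induction_on generalizing M with
  | _ c ih =>
    subst hc
    rcases subsingleton_or_nontrivial M with hs | hs
    · haveI := hs
      haveI := AcycFin.subsingleton_const Y M q
      infer_instance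
    obtain ⟨ℓ, hℓ, hdvd⟩ := Nat.exists_prime_and_dvd (Finite.one_lt_card (α := M)).ne'
    haveI : Fact ℓ.Prime := ⟨hℓ⟩
    obtain ⟨x, hx⟩ := exists_prime_addOrderOf_dvd_card' ℓ hdvd
    let C := AddSubgroup.zmultiples x
    let ψ : M →+ M ⧸ C := QuotientAddGroup.mk' C
    obtain ⟨w, hS⟩ := GalCd5.shortExact_const Y ψ (QuotientAddGroup.mk'_surjective C)
    have hker : Nat.card ψ.ker = ℓ := by rw [QuotientAddGroup.ker_mk', Nat.card_zmultiples, hx]
    haveI : IsAddCyclic ψ.ker := isAddCyclic_of_prime_card hker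
    have e : ZMod ℓ ≃+ ψ.ker := hker ▸ zmodAddCyclicAddEquiv (inferInstance : IsAddCyclic ψ.ker)
    haveI := h ℓ hℓ (hM ℓ hℓ hdvd)
    haveI : Finite (EtCoh.H Y (EtCoh.const Y ψ.ker) q) := finite_H_of_iso (constIso Y e) q
    have hcard := AddSubgroup.card_eq_card_quotient_mul_card_addSubgroup C
    haveI : Finite (EtCoh.H Y (EtCoh.const Y (M ⧸ C)) q) := by
      refine ih (Nat.card (M ⧸ C)) ?_ (M ⧸ C) (fun r hr hd => hM r hr ?_) rfl
      · rw [hcard]
        refine lt_mul_of_one_lt_right Nat.card_pos ?_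
        rw [Nat.card_zmultiples, hx]
        exact hℓ.one_lt
      · rw [hcard]
        exact hd.mul_right _
    exact @finite_H_X₂ _ _ hS q ‹_› ‹_›

/-- proper closed subsets of integral curves are finite -/
theorem finite_compl_range {Y U : Scheme.{u}} [IsIntegral Y] [IsNoetherian Y] (hdim : topologicalKrullDim Y ≤ 1)
    (j : U ⟶ Y) [IsOpenImmersion j] [Nonempty U] :
    (Set.range j.base)ᶜ.Finite ∧ ∀ y ∉ Set.range j.base, IsClosed ({y} : Set Y) := by
  obtain ⟨u⟩ := ‹Nonempty U›
  have hgen : genericPoint Y ∈ Set.range j.base :=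
    (genericPoint_specializes (j u)).mem_open j.isOpenEmbedding.isOpen_range ⟨u, rfl⟩
  have hclosed : ∀ y ∉ Set.range j.base, IsClosed ({y} : Set Y) := fun y hy => by
    refine GmDiv.isClosed_singleton_of_dim hdim fun h => hy ?_
    rw [← h (genericPoint Y) (genericPoint_specializes y)]
    exact hgen
  refine ⟨?_, hclosed⟩
  obtain ⟨S, hS, hc, hirr, e⟩ := NoetherianSpace.exists_finite_set_isClosed_irreducible
    (j.isOpenEmbedding.isOpen_range.isClosed_compl)
  have hsub : ∀ Z ∈ S, Z.Subsingleton := fun Z hZ => by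
    have hg := (hirr Z hZ).isGenericPoint_genericPoint_closure
    rw [(hc Z hZ).closure_eq] at hg
    have hη : (hirr Z hZ).genericPoint ∈ (Set.range j.base)ᶜ := e ▸ Set.mem_sUnion.2 ⟨Z, hZ, hg.mem⟩
    rw [← hg.def, (hclosed _ hη).closure_eq]
    exact Set.subsingleton_singleton
  rw [e]
  exact hS.sUnion fun Z hZ => (hsub Z hZ).finite

/-- finiteness for constant coefficients of prime order -/
theorem finite_H_const_zmod_open (k : Type u) [Field k] [IsAlgClosed k] (Y : Scheme.{u})
    (s : Y ⟶ Spec (CommRingCat.of k)) [IsSeparated s] [LocallyOfFiniteType s] [QuasiCompact s] [IsIntegral Y]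
    (hY : Pi1.IsNormalScheme Y) (hdim : topologicalKrullDim Y ≤ 1) (ℓ : ℕ) (hℓ : ℓ.Prime) (hℓk : (ℓ : k) ≠ 0)
    (n : ℕ) : Finite (EtCoh.H Y (EtCoh.const Y (ZMod ℓ)) n) := by
  haveI : NeZero ℓ := ⟨hℓ.ne_zero⟩
  rcases n with _ | n
  · exact finite_H_zero_const (ZMod ℓ)
  haveI : IsLocallyNoetherian Y := LocallyOfFiniteType.isLocallyNoetherian s
  haveI : CompactSpace Y := QuasiCompact.compactSpace_of_compactSpace s
  haveI : IsNoetherian Y := {}
  by_cases hone : topologicalKrullDim Y = 1
  swap
  · haveI : Subsingleton ↥Y := subsingleton_of_dim_ne_one hdim hone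
    haveI := CurveCd.ClosedAcyclic.subsingleton_H (F := EtCoh.const Y (ZMod ℓ))
      (fun y hy => CurveCd.isSepClosed_residueField_of_isClosed k s hy)
      (fun y _ => by
        have e : ({y} : Set Y) = Set.univ := Set.eq_univ_of_forall fun z => Subsingleton.elim z y
        rw [e]
        exact isClosed_univ) n
    infer_instance
  letI : Y.Over (Spec (CommRingCat.of k)) := ⟨s⟩
  haveI : IsSeparated (Y ↘ Spec (CommRingCat.of k)) := ‹IsSeparated s›
  haveI : LocallyOfFiniteType (Y ↘ Spec (CommRingCat.of k)) := ‹LocallyOfFiniteType s›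
  haveI : QuasiCompact (Y ↘ Spec (CommRingCat.of k)) := ‹QuasiCompact s›
  obtain ⟨P, iP, j, hj, -, hPint, hPs, hPdim, d, i, hi, hfac⟩ := CurveModel.exists_model k Y hY hone
  haveI := hj
  haveI := hPint
  haveI := hPs
  haveI := hi
  haveI : IsProper (CohB1.ProjSpace.toSpec d k) := PnCoh.Chow.isProper_toSpec d k
  let sP := P ↘ Spec (CommRingCat.of k)
  haveI : IsProper sP := by rw [show sP = i ≫ CohB1.ProjSpace.toSpec d k from hfac.symm]; infer_instance
  haveI : Smooth sP := hPs
  haveI : IsLocallyNoetherian P := LocallyOfFiniteType.isLocallyNoetherian sP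
  haveI : CompactSpace P := QuasiCompact.compactSpace_of_compactSpace sP
  haveI : IsNoetherian P := {}
  haveI : QuasiCompact j := inferInstance
  have hP : Pi1.IsNormalScheme P := Ref1X.isNormalScheme_of_regular fun x =>
    GrpSchLib.isRegularLocalRing_stalk_of_smooth sP x
  obtain ⟨hfinS, hclS⟩ := finite_compl_range hPdim.le j
  refine Leray.finite_H_of_leray j (n + 1) _ fun p q _ => finite_H_constructible k P sP hPdim.le p _ ?_
  rcases q with _ | q
  · -- degree zero is the constant sheaf
    haveI : IsIso ((EtCoh.pullPushAdj j).unit.app (EtCoh.const P (ZMod ℓ))) := by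
      haveI : IsPreimmersion (𝟙 _ ≫ j) := by rw [Category.id_comp]; infer_instance
      haveI : QuasiCompact (𝟙 _ ≫ j) := by rw [Category.id_comp]; infer_instance
      refine ConstVal.isIso_unit_const_normal j hP (𝟙 _) ?_ (ZMod ℓ)
      rw [Category.id_comp]
      refine ConstVal.maxInRange_generic P _ ?_
      exact (genericPoint_specializes (j (genericPoint Y))).mem_open j.isOpenEmbedding.isOpen_range
        ⟨genericPoint Y, rfl⟩
    haveI : (EtCoh.push j).IsRightAdjoint := (EtCoh.pullPushAdj j).isRightAdjoint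
    haveI : PreservesFiniteLimits (EtCoh.push j) := EtFound.push_preservesFiniteLimits j
    exact isConstructible_of_iso ((asIso ((EtCoh.pullPushAdj j).unit.app (EtCoh.const P (ZMod ℓ)))) ≪≫
      (EtCoh.push j).mapIso (EtCore.pullConst j (ZMod ℓ)) ≪≫
      ((EtCoh.push j).rightDerivedZeroIsoSelf.app _).symm) (isConstructible_const (ZMod ℓ))
  · let F := (EtCoh.Rpush j (q + 1)).obj (EtCoh.const Y (ZMod ℓ))
    refine isConstructible_of_card (fun Ω _ _ ξ => (finite_stalk_Rpush k sP hP hPdim.le j ℓ hℓ hℓk (q + 1) ξ).1)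
      fun m => ?_
    have hz : ∀ y ∈ Set.range j.base, ∀ m', y ∈ stalkSet F (fun A => Nat.card A = m') → m' = 1 := by
      rintro y hy m' ⟨Ω, i1, i2, ξ, hr, hm⟩
      rw [range_point, Set.singleton_eq_singleton_iff] at hr
      haveI := (finite_stalk_Rpush k sP hP hPdim.le j ℓ hℓ hℓk (q + 1) ξ).2 q.succ_pos (hr.symm ▸ hy)
      rw [← hm]
      exact Nat.card_unique
    have hone' : ∀ y ∈ Set.range j.base, y ∈ stalkSet F (fun A => Nat.card A = 1) := fun y hy => by
      obtain ⟨Ω, _, _, ξ, hξ⟩ := exists_geomPoint y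
      haveI := (finite_stalk_Rpush k sP hP hPdim.le j ℓ hℓ hℓk (q + 1) ξ).2 q.succ_pos (hξ.symm ▸ hy)
      exact ⟨Ω, inferInstance, inferInstance, ξ, by rw [range_point, hξ], Nat.card_unique⟩
    have hclosedsub : ∀ T ⊆ (Set.range j.base)ᶜ, IsClosed T := fun T hT => by
      rw [← Set.biUnion_of_singleton T]
      exact (hfinS.subset hT).isClosed_biUnion fun y hy => hclS y (hT hy)
    have hcc : ∀ C : Set P, IsClosed C → Topology.IsLocallyConstructible C := fun C hC =>
      (Topology.isConstructible_compl.1 (IsRetrocompact.isConstructible hC.isOpen_compl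
        fun _ _ _ => NoetherianSpace.isCompact _)).isLocallyConstructible
    by_cases hm : m = 1
    · subst hm
      have h2 := hcc _
        (hclosedsub (stalkSet F fun A => Nat.card A = 1)ᶜ (Set.compl_subset_compl.2 fun y hy => hone' y hy))
      simpa using AnPts.isLocallyConstructible_compl h2
    · exact hcc _ (hclosedsub _ fun y hy hy' => hm (hz y hy' m hy))

/-- an exponent invertible in the field for a torsion constructible sheaf with invertible orders -/
theorem exists_invertible_killing (k : Type u) [Field k] {X : Scheme.{u}} [CompactSpace X] [QuasiSeparatedSpace X]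
    (F : EtCoh.Ab X) (hF : EtPBC.IsConstructible F)
    (hFt : EtPBC.IsTorsionInvertibleOn (Spec (CommRingCat.of k)) F) :
    ∃ n : ℕ, (n : k) ≠ 0 ∧ n • 𝟙 F = 0 := by
  obtain ⟨N, hN, hNF⟩ := exists_killedBy X hF
  obtain ⟨N', hN', hdvd⟩ : ∃ N' : ℕ, (N' : k) ≠ 0 ∧ ∀ m : ℕ, m ∣ N → (m : k) ≠ 0 → m ∣ N' := by
    obtain ⟨p, hp⟩ := CharP.exists k
    haveI := hp
    rcases CharP.char_is_prime_or_zero k p with hpr | h0
    · obtain ⟨a, b, hb, hab⟩ := Nat.exists_eq_pow_mul_and_not_dvd hN.ne' p hpr.ne_one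
      refine ⟨b, fun h => hb ((CharP.cast_eq_zero_iff k p b).1 h), fun m hm hmk => ?_⟩
      have hco : Nat.Coprime m p := Nat.Coprime.symm
        (hpr.coprime_iff_not_dvd.2 fun hd => hmk ((CharP.cast_eq_zero_iff k p m).2 hd))
      exact (hco.pow_right a).dvd_of_dvd_mul_left (hab ▸ hm)
    · subst h0
      haveI : CharZero k := CharP.charP_to_charZero k
      exact ⟨N, Nat.cast_ne_zero.2 hN.ne', fun m hm _ => hm⟩
  refine ⟨N', hN', (killedBy_iff_nsmul N' F).1 fun U t => GmDiv.eq_zero_of_local F _ fun x => ?_⟩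
  obtain ⟨V, g, m, ⟨v, hv⟩, hu, hm⟩ := hFt U t x
  refine ⟨V, g, v, hv, ?_⟩
  have hmk : (m : k) ≠ 0 := by
    have := hu.map (Scheme.ΓSpecIso (CommRingCat.of k)).hom.hom
    rw [map_natCast] at this
    exact this.ne_zero
  have h1 : addOrderOf ((F.obj.map g.op).hom t) ∣ m := addOrderOf_dvd_iff_nsmul_eq_zero.2 hm
  have h2 : addOrderOf ((F.obj.map g.op).hom t) ∣ N :=
    addOrderOf_dvd_iff_nsmul_eq_zero.2 ((killedBy_iff_nsmul N F).2 hNF V _)
  rw [map_nsmul]
  refine addOrderOf_dvd_iff_nsmul_eq_zero.1 (hdvd _ h2 fun h => ?_)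
  obtain ⟨c, hc⟩ := h1
  exact hmk (by rw [hc, Nat.cast_mul, h, zero_mul])

/-- cohomology of constructible sheaves killed by an exponent invertible in the field is finite on curves -/
theorem finite_H_constructible_open (k : Type u) [Field k] [IsAlgClosed k] (X : Scheme.{u})
    (s : X ⟶ Spec (CommRingCat.of k)) [IsSeparated s] [LocallyOfFiniteType s] [QuasiCompact s]
    (hdim : topologicalKrullDim X ≤ 1) (d : ℕ) (hd : (d : k) ≠ 0) :
    ∀ (q : ℕ) (F : EtCoh.Ab X), EtPBC.IsConstructible F → d • 𝟙 F = 0 → Finite (EtCoh.H X F q) := by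
  haveI : IsLocallyNoetherian X := LocallyOfFiniteType.isLocallyNoetherian s
  haveI : CompactSpace X := QuasiCompact.compactSpace_of_compactSpace s
  intro q
  induction q using Nat.strong_induction_on with
  | _ q ih =>
    intro F hF hFd
    obtain ⟨n, Y, f, hf, hY, hN, M, iM, fM, ι, hι, hkill⟩ := exists_normal_embedding k X s F hF
    have hG : ∀ i, d • 𝟙 ((EtCoh.push (f i)).obj (EtCoh.const (Y i) (M i))) = 0 := fun i => by
      haveI := EtFound.push_preservesFiniteLimits (f i)
      exact GalCd5.killed_map (EtCoh.push (f i)) _ d (GalCd5.killed_const _ d fun a => hkill d hFd i a)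
    refine finite_H_of_mono ι q (finite_H_biproduct _ q fun i => ?_) fun p hp => ih p (by omega) _ ?_ ?_
    · have := finite_H_const_of_prime (Y i) q (fun ℓ => (ℓ : k) ≠ 0)
        (fun ℓ hℓ hℓk => finite_H_const_zmod_open k (Y i) (f i ≫ s) (hN i)
          ((S9683.result (f i)).1.trans hdim) ℓ hℓ hℓk q) (M i) fun ℓ hℓ hdvd h0 => ?_
      · exact finite_H_push (f i) _ q
      · haveI : Fact ℓ.Prime := ⟨hℓ⟩
        obtain ⟨a, ha⟩ := exists_prime_addOrderOf_dvd_card' (G := M i) ℓ hdvd
        obtain ⟨c, hc⟩ := ha ▸ addOrderOf_dvd_iff_nsmul_eq_zero.2 (hkill d hFd i a)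
        exact hd (by rw [hc, Nat.cast_mul, h0, zero_mul])
    · refine isConstructible_cokernel ι hF (isConstructible_biproduct _ fun i => ?_)
      haveI : IsLocallyNoetherian (Y i) := LocallyOfFiniteType.isLocallyNoetherian (f i)
      exact EtFound.isConstructible_push (f i) (isConstructible_const (M i))
    · rw [← cancel_epi (cokernel.π ι), comp_zero, Preadditive.comp_nsmul, Category.comp_id,
        ← Category.id_comp (cokernel.π ι), ← Preadditive.nsmul_comp, nsmul_biproduct _ hG, zero_comp]

end Groth.Agent.CurveFin
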