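import Groth.Agent.EtFound.NoethConstr
import Groth.Agent.EtFound.NoethACC
import Groth.Agent.EtFound.StalkSet
import Groth.Agent.AcycFin.ConstLocal
import Groth.Agent.AcycFin.GeomFibres
import Groth.Agent.NormFieldX.Curve
import Groth.Agent.EtFound.ConstExtend
import Groth.Agent.EtFound.ConstVal
import Groth.Agent.QCoh.Devissage
import Groth.Agent.EtFound.PullStalk
import Groth.Agent.EtFound.Presentation

/-!
# Constructible sheaves inside direct images of constants along finite maps from normal integral schemes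
-/

set_option autoImplicit false
set_option linter.style.haveILetI false
set_option linter.unusedSectionVars false
set_option backward.isDefEq.respectTransparency false
set_option backward.isDefEq.respectTransparency.types false

universe u

open CategoryTheory CategoryTheory.Limits AlgebraicGeometry Opposite TopologicalSpace

noncomputable section

namespace Groth.Agent.CurveFin

open Groth.Agent.EtFound Groth.Agent.EtFound.ConstVal

theorem exists_function_field_map {Z : Scheme.{u}} [IsIntegral Z] {U : Scheme.{u}} (m : U ⟶ Z)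
    [LocallyQuasiFinite m] (p : U) (hp : m p = genericPoint Z) :
    ∃ φ : Z.functionField →+* U.residueField p, φ.Finite ∧
      NormFieldX.pnt Z (U.residueField p) φ = U.fromSpecResidueField p ≫ m := by
  have key : ∀ z : Z, m p = z → ∃ φ : Z.presheaf.stalk z →+* U.residueField p, φ.Finite ∧
      Spec.map (CommRingCat.ofHom φ) ≫ Z.fromSpecStalk z = U.fromSpecResidueField p ≫ m := by
    rintro _ rfl
    refine ⟨(Z.residue (m p) ≫ m.residueFieldMap p).hom, ?_, ?_⟩
    · rw [CommRingCat.hom_comp]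
      exact (AcycFin.finite_residueFieldMap m p).comp (RingHom.Finite.of_surjective _ (Z.residue_surjective _))
    · rw [← Scheme.Hom.SpecMap_residueFieldMap_fromSpecResidueField, CommRingCat.ofHom_hom, Spec.map_comp,
        Category.assoc]
      rfl
  exact key _ hp

/-- the point of the normalization in a finite extension is an embedding of the generic point -/
theorem isPreimmersion_toNormalization (Z : Scheme.{u}) [IsIntegral Z] (L : Type u) [Field L]
    (φ : Z.functionField →+* L) (hφ : φ.Finite)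
    [QuasiCompact (NormFieldX.pnt Z L φ)] [QuasiSeparated (NormFieldX.pnt Z L φ)] :
    IsPreimmersion (NormFieldX.pnt Z L φ).toNormalization := by
  let τ := (NormFieldX.pnt Z L φ).toNormalization
  obtain ⟨h1, h2⟩ := NormFieldX.range_stalkClosedPointTo Z L φ
  haveI : Subsingleton ↥(Spec (CommRingCat.of L)) := inferInstance
  haveI : SurjectiveOnStalks τ := ⟨fun z => by
    obtain rfl : z = IsLocalRing.closedPoint L := Subsingleton.elim _ _
    have hs : Function.Surjective (Scheme.stalkClosedPointTo τ).hom := fun y => by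
      refine (Set.ext_iff.1 h2 y).2 ?_
      obtain ⟨q, hq, hy⟩ := hφ.to_isIntegral y
      exact ⟨q, hq, hy⟩
    let e := stalkClosedPointIso (CommRingCat.of L)
    have : Scheme.stalkClosedPointTo τ = τ.stalkMap (IsLocalRing.closedPoint L) ≫ e.hom := rfl
    rw [this, CommRingCat.hom_comp, RingHom.coe_comp] at hs
    intro w
    obtain ⟨v, hv⟩ := hs (e.hom w)
    exact ⟨v, e.commRingCatIsoToRingEquiv.injective hv⟩⟩
  exact { isEmbedding := .of_subsingleton _ }

/-- multiples killing a constant sheaf on a nonempty scheme kill its values -/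
theorem smul_eq_zero_of_const {Z : Scheme.{u}} (z : Z) {M : Type} [AddCommGroup M] {d : ℕ}
    (h : d • 𝟙 (EtCoh.const Z M) = 0) (a : M) : d • a = 0 := by
  obtain ⟨Ω, _, _, ξ, rfl⟩ := exists_geomPoint z
  let pt : (Scheme.pointSmallEtale ξ).fiber.obj (EtCoh.top Z) := CategoryTheory.Over.homMk ξ (Category.comp_id _)
  let A : AddCommGrpCat.{u + 1} := AddCommGrpCat.of (ULift.{u + 1} M)
  let c := (toSheafify Z.smallEtaleTopology ((Functor.const Z.Etaleᵒᵖ).obj A)).app (op (EtCoh.top Z))
  have hb := (constBy_const Z A (EtCoh.top Z) Ω ξ pt).1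
  have h1 : (c ≫ (Scheme.pointSmallEtale ξ).toPresheafFiber (EtCoh.top Z) pt (EtCoh.const Z M).obj).hom (d • ULift.up a) =
      (c ≫ (Scheme.pointSmallEtale ξ).toPresheafFiber (EtCoh.top Z) pt (EtCoh.const Z M).obj).hom 0 := by
    rw [map_zero, map_nsmul, AddCommGrpCat.hom_comp, AddMonoidHom.comp_apply, ← map_nsmul,
      (killedBy_iff_nsmul d _).2 h, map_zero]
  exact congrArg ULift.down (hb h1)

/-- a map into a finite constant direct image which is injective at a given point -/
theorem exists_hom_at (k : Type u) [Field k] (X : Scheme.{u}) (q : X ⟶ Spec (CommRingCat.of k))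
    [LocallyOfFiniteType q] [IsNoetherian X] (F : EtCoh.Ab X) (hF : EtPBC.IsConstructible F) (x : X) :
    ∃ (Y : Scheme.{u}) (f : Y ⟶ X) (_ : IsFinite f) (_ : IsIntegral Y) (_ : Pi1.IsNormalScheme Y)
      (M : Type) (_ : AddCommGroup M) (_ : Finite M) (ψ : F ⟶ (EtCoh.push f).obj (EtCoh.const Y M)),
      x ∈ stalkSet (kernel ψ) (fun A => Subsingleton A) ∧ ∀ n : ℕ, n • 𝟙 F = 0 → ∀ a : M, n • a = 0 := by
  classical
  let I := Scheme.IdealSheafData.vanishingIdeal (Closeds.closure {x})
  haveI : IsIntegral I.subscheme := QCoh.isIntegral_closure_point x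
  let Z := I.subscheme
  let i : Z ⟶ X := I.subschemeι
  haveI : IsLocallyNoetherian Z := LocallyOfFiniteType.isLocallyNoetherian i
  have hr : Set.range i.base = closure {x} := H23.RedSub.range_vanishingIdeal _
  have hix : i (genericPoint Z) = x := by
    have hg : IsGenericPoint (i (genericPoint Z)) (closure {x}) := by
      have := (genericPoint_spec Z).image i.continuous
      rwa [Set.image_univ, hr, closure_closure] at this
    exact hg.eq isGenericPoint_closure
  let ζ := genericPoint Z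
  obtain ⟨V, hζV, T, g, hg, hgr, ι', U', hcov, hres⟩ :=
    exists_generic_piece (isConstructible_pull i hF) ζ
  haveI := hg
  obtain ⟨t, ht⟩ : ζ ∈ Set.range g.base := hgr.ge ⟨hζV, subset_closure rfl⟩
  obtain ⟨j, p, hp⟩ := hcov t
  obtain ⟨M, iM, fM, ⟨e⟩⟩ := hres j
  obtain ⟨e1⟩ := AcycFin.nonempty_pull_iso_const e
  haveI : AlgebraicGeometry.Etale (U' j).hom := (U' j).prop
  haveI : LocallyOfFiniteType g := inferInstance
  haveI : LocallyQuasiFinite g := inferInstance
  let m : (U' j).left ⟶ Z := (U' j).hom ≫ g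
  haveI : LocallyQuasiFinite m := inferInstance
  have hmp : m p = genericPoint Z := by
    rw [Scheme.Hom.comp_apply]
    exact (congrArg g hp).trans ht
  let L := (U' j).left.residueField p
  let r := (U' j).left.fromSpecResidueField p
  obtain ⟨φ, hφ, hpnt⟩ := exists_function_field_map m p hmp
  haveI : QuasiSeparatedSpace Z := inferInstance
  haveI : QuasiCompact (NormFieldX.pnt Z L φ) := inferInstance
  haveI : QuasiSeparated (NormFieldX.pnt Z L φ) := inferInstance
  haveI : IsFinite (NormFieldX.ν Z L φ) := NormFieldX.isFinite_ν k (i ≫ q) hφ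
  let N := NormFieldX.norm Z L φ
  have hN : Pi1.IsNormalScheme N := NormFieldX.isNormalScheme_norm
  let τ : Spec (CommRingCat.of L) ⟶ N := (NormFieldX.pnt Z L φ).toNormalization
  haveI : IsPreimmersion τ := isPreimmersion_toNormalization Z L φ hφ
  haveI : IsIso ((EtCoh.pullPushAdj τ).unit.app (EtCoh.const N M)) := by
    haveI : IsPreimmersion (𝟙 _ ≫ τ) := by rw [Category.id_comp]; infer_instance
    haveI : QuasiCompact (𝟙 _ ≫ τ) := by rw [Category.id_comp]; infer_instance
    refine isIso_unit_const_normal τ hN (𝟙 _) ?_ M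
    rw [Category.id_comp]
    exact ConstVal.maxInRange_generic N _ ⟨IsLocalRing.closedPoint L, NormFieldX.η_eq Z L φ⟩
  let f : N ⟶ X := NormFieldX.ν Z L φ ≫ i
  have hτf : τ ≫ f = r ≫ (U' j).hom ≫ g ≫ i := by
    show τ ≫ NormFieldX.ν Z L φ ≫ i = _
    rw [← Category.assoc, Scheme.Hom.toNormalization_fromNormalization, hpnt]
    simp only [m, r, Category.assoc]
  let θ : (EtCoh.pull τ).obj ((EtCoh.pull f).obj F) ≅ (EtCoh.pull τ).obj (EtCoh.const N M) :=
    ((pullCompAb τ f).app F).symm ≪≫ (EtCore.pullCongr hτf).app F ≪≫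
      (pullCompAb r ((U' j).hom ≫ g ≫ i)).app F ≪≫
      (EtCoh.pull r).mapIso ((pullCompAb (U' j).hom (g ≫ i)).app F ≪≫
        (EtCoh.pull (U' j).hom).mapIso ((pullCompAb g i).app F) ≪≫ e1.symm) ≪≫
      EtCore.pullConst r M ≪≫ (EtCore.pullConst τ M).symm
  let u : EtCoh.const N M ≅ (EtCoh.push τ).obj ((EtCoh.pull τ).obj (EtCoh.const N M)) :=
    asIso ((EtCoh.pullPushAdj τ).unit.app (EtCoh.const N M))
  let b : (EtCoh.pull f).obj F ⟶ EtCoh.const N M :=
    ((EtCoh.pullPushAdj τ).homEquiv _ _ θ.hom) ≫ u.inv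
  refine ⟨N, f, inferInstance, inferInstance, hN, M, iM, fM, (EtCoh.pullPushAdj f).homEquiv _ _ b, ?_⟩
  let ψ := (EtCoh.pullPushAdj f).homEquiv _ _ b
  haveI := pull_preservesFiniteLimits τ
  haveI := pull_preservesFiniteLimits f
  haveI : (EtCoh.pull τ).Additive := (EtCoh.pullPushAdj _).left_adjoint_additive
  haveI : (EtCoh.pull f).Additive := (EtCoh.pullPushAdj _).left_adjoint_additive
  have h1 : (EtCoh.pull f).map (kernel.ι ψ) ≫ b = 0 := by
    apply ((EtCoh.pullPushAdj f).homEquiv _ _).injective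
    rw [Adjunction.homEquiv_naturality_left, kernel.condition]
    exact (map_zero ((EtCoh.pullPushAdj f).homAddEquiv _ _)).symm
  have h2 : (EtCoh.pull τ).map ((EtCoh.pull f).map (kernel.ι ψ)) ≫ θ.hom = 0 := by
    apply ((EtCoh.pullPushAdj τ).homEquiv _ _).injective
    rw [Adjunction.homEquiv_naturality_left]
    refine Eq.trans ?_ (map_zero ((EtCoh.pullPushAdj τ).homAddEquiv _ _)).symm
    exact (cancel_mono u.inv).1 ((Category.assoc _ _ _).trans (h1.trans zero_comp.symm))
  have h3 := (cancel_mono θ.hom).1 (h2.trans zero_comp.symm)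
  haveI : (EtCoh.pull τ).PreservesMonomorphisms := inferInstance
  haveI : (EtCoh.pull f).PreservesMonomorphisms := inferInstance
  haveI : Mono ((EtCoh.pull f).map (kernel.ι ψ)) := (EtCoh.pull f).map_mono _
  haveI : Mono ((EtCoh.pull τ).map ((EtCoh.pull f).map (kernel.ι ψ))) := (EtCoh.pull τ).map_mono _
  have hz : IsZero ((EtCoh.pull τ).obj ((EtCoh.pull f).obj (kernel ψ))) := IsZero.of_mono_eq_zero _ h3
  let Ω := AlgebraicClosure L
  let l : Spec (CommRingCat.of Ω) ⟶ Spec (CommRingCat.of L) := Spec.map (CommRingCat.ofHom (algebraMap L Ω))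
  refine ⟨⟨Ω, inferInstance, inferInstance, (l ≫ τ) ≫ f, ?_, ?_⟩, fun d hd a => ?_⟩
  · rw [range_point, Category.assoc, hτf]
    refine congrArg (fun y => ({y} : Set X)) ?_
    simp only [Scheme.Hom.comp_apply]
    refine Eq.trans ?_ hix
    refine congrArg i ?_
    refine Eq.trans ?_ hmp
    show g ((U' j).hom _) = g ((U' j).hom p)
    exact congrArg (fun y => g ((U' j).hom y)) (Scheme.fromSpecResidueField_apply _ _)
  · refine AddCommGrpCat.subsingleton_of_isZero ?_
    refine IsZero.of_iso ?_ ((stalkPullIso f (l ≫ τ)).app (kernel ψ)).symm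
    refine IsZero.of_iso ?_ ((stalkPullIso τ l).app ((EtCoh.pull f).obj (kernel ψ))).symm
    exact Functor.map_isZero (EtCoh.stalk l) hz
  · -- multiples killing the sheaf kill the values
    have hC : d • 𝟙 ((EtCoh.pull τ).obj (EtCoh.const N M)) = 0 := by
      have h0 : d • 𝟙 ((EtCoh.pull τ).obj ((EtCoh.pull f).obj F)) = 0 := by
        rw [← CategoryTheory.Functor.map_id, ← CategoryTheory.Functor.map_id, ← Functor.map_nsmul,
          ← Functor.map_nsmul, hd, Functor.map_zero, Functor.map_zero]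
      rw [← θ.inv_hom_id, ← Category.id_comp θ.hom, ← Preadditive.comp_nsmul, ← Preadditive.nsmul_comp, h0,
        zero_comp, comp_zero]
    have hC' : d • 𝟙 (EtCoh.const (Spec (CommRingCat.of L)) M) = 0 := by
      rw [← (EtCore.pullConst τ M).inv_hom_id, ← Category.id_comp (EtCore.pullConst τ M).hom,
        ← Preadditive.comp_nsmul, ← Preadditive.nsmul_comp, hC, zero_comp, comp_zero]
    exact smul_eq_zero_of_const (default : Spec (CommRingCat.of L)) hC' a

/-- finitely many pieces cover a Noetherian space -/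
theorem exists_finset_cover {S : Type*} [TopologicalSpace S] [NoetherianSpace S] [QuasiSober S] (G : S → Set S)
    (hG : ∀ x, ∃ W : Set S, IsOpen W ∧ x ∈ W ∧ W ∩ closure {x} ⊆ G x) :
    ∃ s : Finset S, ∀ y, ∃ x ∈ s, y ∈ G x := by
  classical
  suffices key : ∀ C : Closeds S, ∃ s : Finset S, ∀ y ∈ C, ∃ x ∈ s, y ∈ G x by
    obtain ⟨s, hs⟩ := key ⊤
    exact ⟨s, fun y => hs y trivial⟩
  intro C
  refine WellFounded.induction (C := fun C : Closeds S => ∃ s : Finset S, ∀ y ∈ C, ∃ x ∈ s, y ∈ G x)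
    wellFounded_lt C ?_
  intro C ih
  by_cases he : (C : Set S).Nonempty
  swap
  · exact ⟨∅, fun y hy => absurd ⟨y, hy⟩ he⟩
  by_cases hirr : IsPreirreducible (C : Set S)
  · have hirr' : IsIrreducible (C : Set S) := ⟨he, hirr⟩
    have hg : IsGenericPoint hirr'.genericPoint (C : Set S) := by
      simpa [C.isClosed.closure_eq] using hirr'.isGenericPoint_genericPoint_closure
    obtain ⟨W, hW, hxW, hWC⟩ := hG hirr'.genericPoint
    let C' : Closeds S := ⟨(C : Set S) ∩ Wᶜ, C.isClosed.inter hW.isClosed_compl⟩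
    have hlt : C' < C := lt_of_le_of_ne (show C' ≤ C from SetLike.coe_subset_coe.1 Set.inter_subset_left) fun e => by
      have h1 : hirr'.genericPoint ∈ C' := (SetLike.ext_iff.1 e _).2 hg.mem
      exact h1.2 hxW
    obtain ⟨s, hs⟩ := ih C' hlt
    refine ⟨insert hirr'.genericPoint s, fun y hy => ?_⟩
    by_cases hyW : y ∈ W
    · exact ⟨_, Finset.mem_insert_self _ _, hWC ⟨hyW, hg.def.ge hy⟩⟩
    · obtain ⟨x, hx, hxy⟩ := hs y ⟨hy, hyW⟩
      exact ⟨x, Finset.mem_insert_of_mem hx, hxy⟩
  · simp only [IsPreirreducible, not_forall] at hirr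
    obtain ⟨u, v, hu, hv, hu', hv', hn⟩ := hirr
    let C₁ : Closeds S := ⟨(C : Set S) ∩ uᶜ, C.isClosed.inter hu.isClosed_compl⟩
    let C₂ : Closeds S := ⟨(C : Set S) ∩ vᶜ, C.isClosed.inter hv.isClosed_compl⟩
    obtain ⟨s₁, hs₁⟩ := ih C₁ (lt_of_le_of_ne (show C₁ ≤ C from SetLike.coe_subset_coe.1 Set.inter_subset_left) fun e => by
      obtain ⟨y, hy, hyu⟩ := hu'
      exact (e.ge hy).2 hyu)
    obtain ⟨s₂, hs₂⟩ := ih C₂ (lt_of_le_of_ne (show C₂ ≤ C from SetLike.coe_subset_coe.1 Set.inter_subset_left) fun e => by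
      obtain ⟨y, hy, hyv⟩ := hv'
      exact (e.ge hy).2 hyv)
    refine ⟨s₁ ∪ s₂, fun y hy => ?_⟩
    by_cases hyu : y ∈ u
    · obtain ⟨x, hx, hxy⟩ := hs₂ y ⟨hy, fun hyv => hn ⟨y, hy, hyu, hyv⟩⟩
      exact ⟨x, Finset.mem_union_right _ hx, hxy⟩
    · obtain ⟨x, hx, hxy⟩ := hs₁ y ⟨hy, hyu⟩
      exact ⟨x, Finset.mem_union_left _ hx, hxy⟩

theorem subsingleton_equiv {A B : Type (u + 1)} : Nonempty (A ≃ B) → Subsingleton A → Subsingleton B :=
  fun ⟨e⟩ _ => e.symm.subsingleton

/-- a locus where a constructible sheaf vanishes contains a neighbourhood in the closure -/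
theorem exists_open_vanish {X : Scheme.{u}} {K : EtCoh.Ab X} (hK : EtPBC.IsConstructible K) (x : X)
    (hx : x ∈ stalkSet K (fun A => Subsingleton A)) :
    ∃ W : Set X, IsOpen W ∧ x ∈ W ∧ W ∩ closure {x} ⊆ stalkSet K (fun A => Subsingleton A) := by
  have hP : ∀ A B : Type (u + 1), Nonempty (A ≃ B) → Subsingleton A → Subsingleton B := fun _ _ => subsingleton_equiv
  obtain ⟨V, hxV, T, g, hg, hr, hT⟩ := exists_generic_piece hK x
  obtain ⟨t, ht⟩ : x ∈ Set.range g.base := hr.ge ⟨hxV, subset_closure rfl⟩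
  have ho := isOpen_stalkSet hT hP
  rw [← preimage_stalkSet g hP] at ho
  obtain ⟨W, hW, e⟩ := g.isEmbedding.isInducing.isOpen_iff.1 ho
  refine ⟨(V : Set X) ∩ W, V.2.inter hW, ⟨hxV, ?_⟩, ?_⟩
  · rw [← ht]
    exact e.ge (show g.base t ∈ stalkSet K _ from ht ▸ hx)
  · rintro y ⟨⟨hyV, hyW⟩, hy⟩
    obtain ⟨s, rfl⟩ := hr.ge ⟨hyV, hy⟩
    exact e.le hyW

/-- the embedding -/
theorem exists_normal_embedding (k : Type u) [Field k] (X : Scheme.{u}) (q : X ⟶ Spec (CommRingCat.of k))
    [LocallyOfFiniteType q] [CompactSpace X] (F : EtCoh.Ab X) (hF : EtPBC.IsConstructible F) :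
    ∃ (n : ℕ) (Y : Fin n → Scheme.{u}) (f : ∀ i, Y i ⟶ X) (_ : ∀ i, IsFinite (f i))
      (_ : ∀ i, IsIntegral (Y i)) (_ : ∀ i, Pi1.IsNormalScheme (Y i))
      (M : Fin n → Type) (_ : ∀ i, AddCommGroup (M i)) (_ : ∀ i, Finite (M i))
      (ι : F ⟶ ⨁ fun i => (EtCoh.push (f i)).obj (EtCoh.const (Y i) (M i))),
      Mono ι ∧ ∀ d : ℕ, d • 𝟙 F = 0 → ∀ i (a : M i), d • a = 0 := by
  classical
  haveI : IsLocallyNoetherian X := LocallyOfFiniteType.isLocallyNoetherian q
  haveI : IsNoetherian X := {}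
  choose Y f hf hY hN M iM fM ψ hψ hkill using exists_hom_at k X q F hF
  obtain ⟨s, hs⟩ := exists_finset_cover (fun x : X => stalkSet (kernel (ψ x)) (fun A => Subsingleton A))
    fun x => exists_open_vanish (isConstructible_kernel_noeth hF (ψ x)) x (hψ x)
  let e := s.equivFin.symm
  refine ⟨s.card, fun i => Y (e i), fun i => f (e i), fun i => hf _, fun i => hY _, fun i => hN _,
    fun i => M (e i), fun i => iM _, fun i => fM _, biproduct.lift fun i => ψ (e i), ?_,
    fun d hd i => hkill (e i) d hd⟩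
  let ι := biproduct.lift fun i => ψ (e i)
  refine Preadditive.mono_of_kernel_zero (eq_of_stalks (kernel.ι ι) 0 fun Ω₀ _ _ ξ => ?_)
  obtain ⟨x, hx, hxξ⟩ := hs (ξ.base (default : Spec (CommRingCat.of Ω₀)))
  let i := e.symm ⟨x, hx⟩
  have hi : (e i : X) = x := congrArg Subtype.val (e.apply_symm_apply _)
  rw [← hi, mem_stalkSet_iff (fun _ _ => subsingleton_equiv)] at hxξ
  have hfac : kernel.ι ι ≫ ψ (e i) = 0 := by
    have h : kernel.ι ι ≫ biproduct.lift (fun i => ψ (e i)) = 0 := kernel.condition ι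
    have := congrArg (fun z => z ≫ biproduct.π _ i) h
    simpa [biproduct.lift_π] using this
  rw [← kernel.lift_ι (ψ (e i)) (kernel.ι ι) hfac, Functor.map_comp]
  have : (Scheme.pointSmallEtale ξ).sheafFiber.map (kernel.lift (ψ (e i)) (kernel.ι ι) hfac) = 0 :=
    (@AddCommGrpCat.isZero_of_subsingleton _ hxξ).eq_of_tgt _ _
  rw [this, zero_comp]
  exact (Functor.map_zero _ _ _).symm

end Groth.Agent.CurveFin
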