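import Groth.Agent.CurveFin.Embed
import Groth.Agent.PicCurve.Kummer
import Groth.Agent.EtLC12.GaLinear
import Groth.Agent.CurveCd.TorsionCd
import Groth.Agent.CurveCd.ClosedAcyclic
import Groth.Agent.GalCd5.Basic
import Groth.Agent.ClosedAffAcyc.Killed
import Groth.Agent.CurveCohLib.RegularCurve
import Groth.Agent.Ref1X.CurveAux
import Groth.Agent.EtFound.ConstFlasque
import Groth.Agent.EtFound.FLCTorsor
import Groth.Agent.EtFound.ConstrAb
import Groth.Agent.EtFound.Presentation
import Groth.Agent.EtFound.FinitePushConstr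
import Groth.Agent.S9683
import Groth.Agent.CurveCohLib.SubBundle
import Groth.Agent.AcycFin.FibreConst

/-!
# Finiteness of the cohomology of constructible sheaves on proper curves
-/

set_option autoImplicit false
set_option linter.style.haveILetI false
set_option linter.unusedSectionVars false
set_option backward.isDefEq.respectTransparency false
set_option backward.isDefEq.respectTransparency.types false

universe u

open CategoryTheory CategoryTheory.Limits AlgebraicGeometry Opposite Abelian

noncomputable section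

namespace Groth.Agent.CurveFin

open Groth.Agent.EtFound Groth.Agent.CurveCohLib

variable {X : Scheme.{u}}

theorem finite_of_ker_range {A B : Type*} [AddCommGroup A] [AddCommGroup B] (g : A →+ B) [Finite g.ker]
    [Finite g.range] : Finite A := by
  haveI : Finite (A ⧸ g.ker) := Finite.of_equiv _ (QuotientAddGroup.quotientKerEquivRange g).toEquiv.symm
  exact Finite.of_equiv _ (AddSubgroup.addGroupEquivQuotientProdAddSubgroup (s := g.ker)).symm

theorem finite_H_X₂ {S : ShortComplex (EtCoh.Ab X)} (hS : S.ShortExact) (q : ℕ)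
    [Finite (EtCoh.H X S.X₁ q)] [Finite (EtCoh.H X S.X₃ q)] : Finite (EtCoh.H X S.X₂ q) := by
  let g : EtCoh.H X S.X₂ q →+ EtCoh.H X S.X₃ q := (Ext.mk₀ S.g).postcomp _ (add_zero q)
  let f : EtCoh.H X S.X₁ q →+ EtCoh.H X S.X₂ q := (Ext.mk₀ S.f).postcomp _ (add_zero q)
  haveI : Finite g.ker := by
    refine Finite.of_surjective (fun y => (⟨f y, ?_⟩ : g.ker)) fun x => ?_
    · show (y.comp (Ext.mk₀ S.f) (add_zero q)).comp (Ext.mk₀ S.g) (add_zero q) = 0
      rw [Ext.comp_assoc_of_second_deg_zero, Ext.mk₀_comp_mk₀, S.zero, Ext.mk₀_zero, Ext.comp_zero]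
    · obtain ⟨y, hy⟩ := Ext.covariant_sequence_exact₂ _ hS x.1 x.2
      exact ⟨y, Subtype.ext hy⟩
  exact finite_of_ker_range g

theorem finite_H_of_mono {F G : EtCoh.Ab X} (ι : F ⟶ G) [Mono ι] (q : ℕ)
    (hG : Finite (EtCoh.H X G q)) (hQ : ∀ p, p + 1 = q → Finite (EtCoh.H X (cokernel ι) p)) :
    Finite (EtCoh.H X F q) := by
  let S := ShortComplex.mk ι (cokernel.π ι) (cokernel.condition ι)
  have hS : S.ShortExact := { exact := ShortComplex.exact_of_g_is_cokernel _ (cokernelIsCokernel ι) }
  let g : EtCoh.H X F q →+ EtCoh.H X G q := (Ext.mk₀ ι).postcomp _ (add_zero q)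
  rcases q with _ | p
  · refine Finite.of_injective g ((injective_iff_map_eq_zero g).2 fun x hx => ?_)
    obtain ⟨φ, rfl⟩ := (Ext.mk₀_bijective _ _).2 x
    have h1 : φ ≫ ι = 0 := (Ext.mk₀_bijective _ _).1 (by
      rw [Ext.mk₀_zero, ← Ext.mk₀_comp_mk₀]; exact hx)
    rw [zero_of_comp_mono ι h1, Ext.mk₀_zero]
  · haveI := hQ p rfl
    let d : EtCoh.H X (cokernel ι) p →+ EtCoh.H X F (p + 1) := hS.extClass.postcomp _ rfl
    haveI : Finite g.ker := by
      refine Finite.of_surjective (fun y => (⟨d y, ?_⟩ : g.ker)) fun x => ?_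
      · show (y.comp hS.extClass rfl).comp (Ext.mk₀ ι) (add_zero (p + 1)) = 0
        rw [Ext.comp_assoc_of_third_deg_zero]
        erw [hS.extClass_comp]
        exact Ext.comp_zero ..
      · obtain ⟨y, hy⟩ := Ext.covariant_sequence_exact₁ _ hS x.1 x.2 rfl
        exact ⟨y, Subtype.ext hy⟩
    exact finite_of_ker_range g

theorem finite_H_of_iso {F G : EtCoh.Ab X} (e : F ≅ G) (q : ℕ) [Finite (EtCoh.H X F q)] :
    Finite (EtCoh.H X G q) :=
  Finite.of_surjective _ (EtAcycLib.bijective_comp_mk₀ e).2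

theorem finite_H_biproduct {ι : Type} [Fintype ι] (g : ι → EtCoh.Ab X) [HasBiproduct g] (q : ℕ)
    (h : ∀ i, Finite (EtCoh.H X (g i) q)) : Finite (EtCoh.H X (⨁ g) q) := by
  classical
  let π : EtCoh.H X (⨁ g) q →+ ∀ i, EtCoh.H X (g i) q :=
    AddMonoidHom.pi fun i => (Ext.mk₀ (biproduct.π g i)).postcomp _ (add_zero q)
  refine Finite.of_injective π ((injective_iff_map_eq_zero π).2 fun x hx => ?_)
  have hid : (∑ i, biproduct.π g i ≫ biproduct.ι g i) = 𝟙 (⨁ g) := by
    refine biproduct.hom_ext _ _ fun k => ?_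
    simp [Preadditive.sum_comp, biproduct.ι_π, comp_dite]
  rw [← Ext.comp_mk₀_id x, ← hid, Ext.mk₀_sum, Ext.comp_sum]
  refine Finset.sum_eq_zero fun i _ => ?_
  have hi : x.comp (Ext.mk₀ (biproduct.π g i)) (add_zero q) = 0 := congrFun hx i
  rw [← Ext.mk₀_comp_mk₀, ← Ext.comp_assoc_of_second_deg_zero, hi, Ext.zero_comp]

theorem finite_H_push {Y : Scheme.{u}} (π : Y ⟶ X) [IsFinite π] (G : EtCoh.Ab Y) (q : ℕ)
    [Finite (EtCoh.H Y G q)] : Finite (EtCoh.H X ((EtCoh.push π).obj G) q) := by
  haveI := EtFound.push_preservesFiniteLimits π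
  haveI := EtFound.push_preservesFiniteColimits π
  haveI := EtFound.pull_preservesFiniteLimits π
  have h1 := EtMVLib.adjExtMap_bijective (EtCoh.pullPushAdj π) (EtCoh.const X ℤ) G q
  have h2 := EtAcycLib.bijective_mk₀_comp (B := G) (n := q) (EtCore.pullConst π ℤ)
  haveI : Finite (Ext ((EtCoh.pull π).obj (EtCoh.const X ℤ)) G q) := Finite.of_surjective _ h2.2
  exact Finite.of_surjective _ h1.2

theorem isConstructible_const [IsLocallyNoetherian X] (M : Type) [AddCommGroup M] [Finite M] :
    EtPBC.IsConstructible (EtCoh.const X M) := by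
  refine isConstructible_of_generic fun x => ⟨⊤, trivial, ?_⟩
  have h : IsPiece (EtCoh.const X M) Set.univ :=
    ⟨X, 𝟙 X, inferInstance, Set.range_id, isFiniteLocallyConstant_pull _ (FLCTorsor.isFiniteLocallyConstant_const M)⟩
  exact h.mono (Set.subset_univ _) (by
    show IsLocallyClosed ((Set.univ : Set X) ∩ closure {x})
    rw [Set.univ_inter]
    exact isClosed_closure.isLocallyClosed)

/-- Iso of constant sheaves from an iso of groups. -/
def constIso (X : Scheme.{u}) {M N : Type} [AddCommGroup M] [AddCommGroup N] (e : M ≃+ N) :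
    EtCoh.const X M ≅ EtCoh.const X N :=
  (constantSheaf X.smallEtaleTopology AddCommGrpCat.{u + 1}).mapIso
    ((AddEquiv.ulift.trans (e.trans AddEquiv.ulift.symm)).toAddCommGrpIso)

theorem finite_H_zero_const [ConnectedSpace X] (M : Type) [AddCommGroup M] [Finite M] :
    Finite (EtCoh.H X (EtCoh.const X M) 0) := by
  refine Nat.finite_of_card_ne_zero ?_
  rw [ConstVal.natCard_H0_const]
  exact Nat.card_pos.ne'

theorem subsingleton_of_dim_ne_one {Y : Scheme.{u}} [IrreducibleSpace Y] (hdim : topologicalKrullDim Y ≤ 1)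
    (hne : topologicalKrullDim Y ≠ 1) : Subsingleton Y := by
  have key : ∀ a : WithBot ℕ∞, a < 1 → a ≤ 0 := fun a h => by
    induction a with
    | bot => exact bot_le
    | coe a => exact_mod_cast (ENat.lt_one_iff_eq_zero.1 (WithBot.coe_lt_coe.1 h)).le
  have h0 : topologicalKrullDim Y ≤ 0 := key _ (lt_of_le_of_ne hdim hne)
  refine ⟨fun x y => ?_⟩
  have key : ∀ x : Y, ∀ y : Y, x ⤳ y := fun x y => by
    let Z : TopologicalSpace.IrreducibleCloseds Y := ⟨closure {x}, isIrreducible_singleton.closure, isClosed_closure⟩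
    let W : TopologicalSpace.IrreducibleCloseds Y := ⟨Set.univ, IrreducibleSpace.isIrreducible_univ Y, isClosed_univ⟩
    have hle : Z ≤ W := fun _ _ => trivial
    have := (Order.krullDim_nonpos_iff_forall_isMax.1 h0 Z) hle
    exact specializes_iff_mem_closure.2 (this trivial)
  exact ((key x y).antisymm (key y x)).eq

theorem finite_H_const_zmod (k : Type u) [Field k] [IsAlgClosed k] (Y : Scheme.{u})
    (s : Y ⟶ Spec (CommRingCat.of k)) [IsProper s] [IsIntegral Y] (hY : Pi1.IsNormalScheme Y)
    (hdim : topologicalKrullDim Y ≤ 1) (ℓ : ℕ) (hℓ : ℓ.Prime) (q : ℕ) :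
    Finite (EtCoh.H Y (EtCoh.const Y (ZMod ℓ)) q) := by
  haveI : NeZero ℓ := ⟨hℓ.ne_zero⟩
  haveI : Fact ℓ.Prime := ⟨hℓ⟩
  rcases q with _ | q
  · exact finite_H_zero_const (ZMod ℓ)
  haveI : IsLocallyNoetherian Y := LocallyOfFiniteType.isLocallyNoetherian s
  haveI : CompactSpace Y := QuasiCompact.compactSpace_of_compactSpace s
  haveI : IsNoetherian Y := {}
  have htor : EtCoh.IsTorsion (EtCoh.const Y (ZMod ℓ)) := by
    refine ClosedAffAcyc.isTorsion_of_killedBy hℓ.pos ((killedBy_iff_nsmul ℓ _).2 ?_)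
    exact GalCd5.killed_const Y ℓ fun x => by rw [nsmul_eq_mul, ZMod.natCast_self, zero_mul]
  by_cases hp : (ℓ : k) = 0
  · haveI : CharP k ℓ := by
      rw [← (CharP.charP_iff_prime_eq_zero hℓ)] at hp
      exact hp
    refine EtLC12.GaLinear.finite_H_const ℓ s ?_ (q + 1)
    have h := congrArg (Coh.toGlobal s) hp
    rwa [map_natCast, map_zero] at h
  by_cases hone : topologicalKrullDim Y = 1
  · letI : Y.Over (Spec (CommRingCat.of k)) := ⟨s⟩
    haveI : IsProper (Y ↘ Spec (CommRingCat.of k)) := ‹IsProper s›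
    haveI : LocallyOfFiniteType (Y ↘ Spec (CommRingCat.of k)) := inferInstance
    haveI : Smooth (Y ↘ Spec (CommRingCat.of k)) :=
      CurveCohLib.RegularCurve.smooth_of_regular k fun y _ =>
        Ref1X.isRegular_of_normal_dim_le_one hY ((ringKrullDim_stalk_le_topologicalKrullDim y).trans hdim)
    match q with
    | 0 =>
      obtain ⟨e⟩ := PicCurve.nonempty_H1_const (X := Y) hone ℓ hp
      exact Finite.of_equiv _ e.toEquiv.symm
    | 1 =>
      obtain ⟨e⟩ := PicCurve.nonempty_H2_const (X := Y) hone ℓ hp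
      exact Finite.of_equiv _ e.toEquiv.symm
    | q + 2 =>
      haveI := CurveCd.cohDimLE_two k Y s hdim _ htor (q + 2 + 1) (by omega)
      infer_instance
  · haveI : Subsingleton ↥Y := subsingleton_of_dim_ne_one hdim hone
    haveI := CurveCd.ClosedAcyclic.subsingleton_H (F := EtCoh.const Y (ZMod ℓ))
      (fun y hy => CurveCd.isSepClosed_residueField_of_isClosed k s hy)
      (fun y _ => by
        have e : ({y} : Set Y) = Set.univ := Set.eq_univ_of_forall fun z => Subsingleton.elim z y
        rw [e]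
        exact isClosed_univ) q
    infer_instance

theorem finite_H_const (k : Type u) [Field k] [IsAlgClosed k] (Y : Scheme.{u})
    (s : Y ⟶ Spec (CommRingCat.of k)) [IsProper s] [IsIntegral Y] (hY : Pi1.IsNormalScheme Y)
    (hdim : topologicalKrullDim Y ≤ 1) (M : Type) [AddCommGroup M] [Finite M] (q : ℕ) :
    Finite (EtCoh.H Y (EtCoh.const Y M) q) := by
  obtain ⟨c, hc⟩ : ∃ c, Nat.card M = c := ⟨_, rfl⟩
  induction c using Nat.strong_induction_on generalizing M with
  | _ c ih =>
    subst hc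
    rcases subsingleton_or_nontrivial M with h | h
    · haveI := h
      haveI := AcycFin.subsingleton_const Y M q
      infer_instance
    obtain ⟨ℓ, hℓ, hdvd⟩ := Nat.exists_prime_and_dvd (Finite.one_lt_card (α := M)).ne'
    haveI : Fact ℓ.Prime := ⟨hℓ⟩
    obtain ⟨x, hx⟩ := exists_prime_addOrderOf_dvd_card' ℓ hdvd
    let C := AddSubgroup.zmultiples x
    let ψ : M →+ M ⧸ C := QuotientAddGroup.mk' C
    obtain ⟨w, hS⟩ := GalCd5.shortExact_const Y ψ (QuotientAddGroup.mk'_surjective C)
    have hker : Nat.card ψ.ker = ℓ := by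
      rw [QuotientAddGroup.ker_mk', Nat.card_zmultiples, hx]
    haveI : IsAddCyclic ψ.ker := isAddCyclic_of_prime_card hker
    have e : ZMod ℓ ≃+ ψ.ker := hker ▸ zmodAddCyclicAddEquiv (inferInstance : IsAddCyclic ψ.ker)
    haveI := finite_H_const_zmod k Y s hY hdim ℓ hℓ q
    haveI : Finite (EtCoh.H Y (EtCoh.const Y ψ.ker) q) := finite_H_of_iso (constIso Y e) q
    haveI : Finite (EtCoh.H Y (EtCoh.const Y (M ⧸ C)) q) := by
      refine ih (Nat.card (M ⧸ C)) ?_ (M ⧸ C) rfl
      rw [AddSubgroup.card_eq_card_quotient_mul_card_addSubgroup C]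
      refine lt_mul_of_one_lt_right Nat.card_pos ?_
      rw [Nat.card_zmultiples, hx]
      exact hℓ.one_lt
    exact @finite_H_X₂ _ _ hS q ‹_› ‹_›

/-- Cohomology of constructible sheaves on proper schemes of dimension at most one over an algebraically closed
field is finite. -/
theorem finite_H_constructible (k : Type u) [Field k] [IsAlgClosed k] (X : Scheme.{u})
    (s : X ⟶ Spec (CommRingCat.of k)) [IsProper s] (hdim : topologicalKrullDim X ≤ 1) :
    ∀ (q : ℕ) (F : EtCoh.Ab X), EtPBC.IsConstructible F → Finite (EtCoh.H X F q) := by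
  haveI : IsLocallyNoetherian X := LocallyOfFiniteType.isLocallyNoetherian s
  haveI : CompactSpace X := QuasiCompact.compactSpace_of_compactSpace s
  intro q
  induction q using Nat.strong_induction_on with
  | _ q ih =>
    intro F hF
    obtain ⟨n, Y, f, hf, hY, hN, M, iM, fM, ι, hι, -⟩ := exists_normal_embedding k X s F hF
    refine finite_H_of_mono ι q (finite_H_biproduct _ q fun i => ?_) fun p hp => ih p (by omega) _ ?_
    · haveI := finite_H_const k (Y i) (f i ≫ s) (hN i) ((S9683.result (f i)).1.trans hdim) (M i) q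
      exact finite_H_push (f i) _ q
    · refine isConstructible_cokernel ι hF (isConstructible_biproduct _ fun i => ?_)
      haveI : IsLocallyNoetherian (Y i) := LocallyOfFiniteType.isLocallyNoetherian (f i)
      exact EtFound.isConstructible_push (f i) (isConstructible_const (M i))

end Groth.Agent.CurveFin
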